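import Mathlib
import Groth.Prelude.Def_CE

set_option linter.unusedSectionVars false
set_option linter.unusedVariables false
set_option linter.unusedSimpArgs false
set_option autoImplicit false
set_option linter.style.haveILetI false
set_option maxHeartbeats 400000

universe v u

noncomputable section

namespace Groth.Agent.Helper6.CE

open CategoryTheory CategoryTheory.Limits

variable {A : Type u} [Category.{v} A] [Abelian A]

/-- a criterion for a `ℤ`-indexed complex to be an injective resolution: it is termwise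
isomorphic in nonnegative degrees to an injective resolution, and zero in negative degrees -/
theorem isInjResolutionVia_of_iso (D : CochainComplex A ℤ) (M : A) (a : M ⟶ D.X 0)
    (R : InjectiveResolution M)
    (φ : ∀ j : ℕ, D.X (j : ℤ) ≅ R.cocomplex.X j)
    (hφ : ∀ j : ℕ, D.d (j : ℤ) ((j + 1 : ℕ) : ℤ) ≫ (φ (j + 1)).hom =
      (φ j).hom ≫ R.cocomplex.d j (j + 1))
    (ha : a ≫ (φ 0).hom = R.ι.f 0)
    (hneg : ∀ q : ℤ, q < 0 → IsZero (D.X q)) :
    _root_.CE.IsInjResolutionVia D M a := by
  have h01 : D.d 0 1 ≫ (φ 1).hom = (φ 0).hom ≫ R.cocomplex.d 0 1 := hφ 0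
  have h : a ≫ D.d 0 1 = 0 := by
    rw [← cancel_mono (φ 1).hom, Category.assoc, h01, reassoc_of% ha, zero_comp]
    exact R.ι_f_zero_comp_complex_d
  refine ⟨h, ?_, ?_, ?_, ?_, ?_⟩
  · rw [CochainComplex.isStrictlyGE_iff]
    exact hneg
  · intro q
    rcases lt_or_ge q 0 with hq | hq
    · exact (hneg q hq).injective
    · obtain ⟨j, rfl⟩ := Int.eq_ofNat_of_zero_le hq
      haveI := R.injective j
      exact Injective.of_iso (φ j).symm inferInstance
  · intro q hq0
    rcases lt_or_gt_of_ne hq0 with hq | hq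
    · exact ShortComplex.exact_of_isZero_X₂ _ (hneg q hq)
    · obtain ⟨j, rfl⟩ : ∃ j : ℕ, q = ((j + 1 : ℕ) : ℤ) := by
        obtain ⟨k, rfl⟩ := Int.eq_ofNat_of_zero_le hq.le
        exact ⟨k - 1, by
          have : 0 < k := by exact_mod_cast hq
          congr 1
          omega⟩
      rw [HomologicalComplex.exactAt_iff' D (j : ℤ) ((j + 1 : ℕ) : ℤ) ((j + 2 : ℕ) : ℤ)
        (by simp) (by simp; ring)]
      have hR : (R.cocomplex.sc' j (j + 1) (j + 2)).Exact :=
        (HomologicalComplex.exactAt_iff' _ j (j + 1) (j + 2) (by simp) (by simp)).1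
          (R.cocomplex_exactAt_succ j)
      refine (ShortComplex.exact_iff_of_iso ?_).2 hR
      exact ShortComplex.isoMk (φ j) (φ (j + 1)) (φ (j + 2)) (hφ j).symm (hφ (j + 1)).symm
  · haveI hm : Mono (R.ι.f 0) := mono_of_isLimit_fork R.isLimitKernelFork
    haveI : Mono (a ≫ (φ 0).hom) := by
      rw [ha]
      exact hm
    exact mono_of_mono a (φ 0).hom
  · refine (ShortComplex.exact_iff_of_iso ?_).2 R.exact₀
    refine ShortComplex.isoMk (Iso.refl _) (φ 0) (φ 1) ?_ ?_
    · change 𝟙 _ ≫ R.ι.f 0 = a ≫ (φ 0).hom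
      rw [Category.id_comp, ha]
    · exact h01.symm

end Groth.Agent.Helper6.CE
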