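import Mathlib
import Groth.Prelude.Def_CE
import Groth.Agent.Lib.Helper3.RDerH
import Groth.Agent.Lib.Helper6.CE.Crit

set_option linter.unusedSectionVars false
set_option linter.unusedVariables false
set_option linter.unusedSimpArgs false
set_option autoImplicit false
set_option linter.style.haveILetI false
set_option maxHeartbeats 400000

universe v u

noncomputable section

namespace Groth.Agent.Helper6.CE

open CategoryTheory CategoryTheory.Limits Groth.Agent.Helper3.RDerH

variable {A : Type u} [Category.{v} A] [Abelian A]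

section SES

variable (K : CochainComplex A ℤ)

/-- the boundaries, as the kernel of `Z^q → H^q` -/
def Bd (q : ℤ) : A := kernel (K.homologyπ q)

/-- the inclusion of boundaries into cycles -/
def bι (q : ℤ) : Bd K q ⟶ K.cycles q := kernel.ι (K.homologyπ q)

instance (q : ℤ) : Mono (bι K q) := inferInstanceAs (Mono (kernel.ι (K.homologyπ q)))

lemma bι_π (q : ℤ) : bι K q ≫ K.homologyπ q = 0 := kernel.condition _

/-- the short exact sequence `B^q → Z^q → H^q` -/
def Sb (q : ℤ) : ShortComplex A := ShortComplex.mk (bι K q) (K.homologyπ q) (bι_π K q)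

lemma Sb_shortExact (q : ℤ) : (Sb K q).ShortExact where
  exact := ShortComplex.exact_of_f_is_kernel _ (kernelIsKernel (K.homologyπ q))
  mono_f := inferInstanceAs (Mono (bι K q))
  epi_g := inferInstanceAs (Epi (K.homologyπ q))

/-- the differential, as a map to the boundaries -/
def liftB (p : ℤ) : K.X p ⟶ Bd K (p + 1) :=
  kernel.lift (K.homologyπ (p + 1)) (K.toCycles p (p + 1)) (K.toCycles_comp_homologyπ p (p + 1))

@[reassoc]
lemma liftB_ι (p : ℤ) : liftB K p ≫ bι K (p + 1) = K.toCycles p (p + 1) :=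
  kernel.lift_ι _ _ _

@[reassoc]
lemma liftB_d (p : ℤ) : liftB K p ≫ bι K (p + 1) ≫ K.iCycles (p + 1) = K.d p (p + 1) := by
  rw [liftB_ι_assoc, HomologicalComplex.toCycles_i]

lemma iCycles_liftB (p : ℤ) : K.iCycles p ≫ liftB K p = 0 := by
  rw [← cancel_mono (bι K (p + 1)), ← cancel_mono (K.iCycles (p + 1)), Category.assoc,
    Category.assoc, liftB_d, zero_comp, zero_comp, HomologicalComplex.iCycles_d]

instance (p : ℤ) : Epi (liftB K p) := by
  have hex : (ShortComplex.mk (K.toCycles p (p + 1)) (K.homologyπ (p + 1))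
      (K.toCycles_comp_homologyπ p (p + 1))).Exact :=
    ShortComplex.exact_of_g_is_cokernel _ (K.homologyIsCokernel p (p + 1) (by simp))
  exact hex.epi_kernelLift

/-- the short exact sequence `Z^p → K^p → B^{p+1}` -/
def Sa (p : ℤ) : ShortComplex A := ShortComplex.mk (K.iCycles p) (liftB K p) (iCycles_liftB K p)

lemma Sa_shortExact (p : ℤ) : (Sa K p).ShortExact where
  exact := by
    refine ShortComplex.exact_of_f_is_kernel _ ?_
    exact isKernelOfComp (f := liftB K p) (bι K (p + 1) ≫ K.iCycles (p + 1)) (K.d p (p + 1))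
      (K.cyclesIsKernel p (p + 1) (by simp)) (iCycles_liftB K p) (liftB_d K p)
  mono_f := inferInstanceAs (Mono (K.iCycles p))
  epi_g := inferInstanceAs (Epi (liftB K p))

end SES

section Res

/-- a resolution of a zero object all of whose terms are zero -/
def zeroRes (X : A) (hX : IsZero X) : InjectiveResolution X :=
  haveI := hX.injective
  InjectiveResolution.self X

lemma zeroRes_isZero (X : A) (hX : IsZero X) (j : ℕ) :
    IsZero ((zeroRes X hX).cocomplex.X j) := by
  cases j with
  | zero => exact hX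
  | succ j => exact HomologicalComplex.isZero_single_obj_X _ _ _ _ (by simp)

variable [EnoughInjectives A]

open Classical in
/-- a chosen injective resolution, which is zero for zero objects -/
def res (X : A) : InjectiveResolution X :=
  if h : IsZero X then zeroRes X h else injectiveResolution X

lemma res_isZero (X : A) (hX : IsZero X) (j : ℕ) : IsZero ((res X).cocomplex.X j) := by
  unfold res
  rw [dif_pos hX]
  exact zeroRes_isZero X hX j

variable (K : CochainComplex A ℤ)

/-- resolution of the boundaries -/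
def RB (q : ℤ) : InjectiveResolution (Bd K q) := res _

/-- resolution of the cohomology -/
def RH (q : ℤ) : InjectiveResolution (K.homology q) := res _

/-- horseshoe for `B → Z → H` -/
def Tb (q : ℤ) : RDer.SESRes (Sb K q) := sesRes (Sb_shortExact K q) (RB K q) (RH K q)

/-- resolution of the cycles -/
def RZ (q : ℤ) : InjectiveResolution (K.cycles q) := (Tb K q).I₂

/-- horseshoe for `Z → K → B` -/
def Ta (p : ℤ) : RDer.SESRes (Sa K p) := sesRes (Sa_shortExact K p) (RZ K p) (RB K (p + 1))

/-- resolution of the terms -/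
def RX (p : ℤ) : InjectiveResolution (K.X p) := (Ta K p).I₂

/-- the map of resolutions over `B → Z` -/
def fZ (q : ℤ) : (RB K q).cocomplex ⟶ (RZ K q).cocomplex := (Tb K q).f

/-- the map of resolutions over `Z → H` -/
def gZ (q : ℤ) : (RZ K q).cocomplex ⟶ (RH K q).cocomplex := (Tb K q).g

/-- the map of resolutions over `Z → K` -/
def fX (p : ℤ) : (RZ K p).cocomplex ⟶ (RX K p).cocomplex := (Ta K p).f

/-- the map of resolutions over `K → B` -/
def gX (p : ℤ) : (RX K p).cocomplex ⟶ (RB K (p + 1)).cocomplex := (Ta K p).g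

@[reassoc]
lemma fZ_gZ (q : ℤ) : fZ K q ≫ gZ K q = 0 := (Tb K q).zero

@[reassoc]
lemma fX_gX (p : ℤ) : fX K p ≫ gX K p = 0 := (Ta K p).zero

@[reassoc]
lemma fZ_gZ_f (q : ℤ) (j : ℕ) : (fZ K q).f j ≫ (gZ K q).f j = 0 := by
  rw [← HomologicalComplex.comp_f, fZ_gZ, HomologicalComplex.zero_f]

@[reassoc]
lemma fX_gX_f (p : ℤ) (j : ℕ) : (fX K p).f j ≫ (gX K p).f j = 0 := by
  rw [← HomologicalComplex.comp_f, fX_gX, HomologicalComplex.zero_f]

lemma shortExact_Z (q : ℤ) (j : ℕ) :
    (ShortComplex.mk ((fZ K q).f j) ((gZ K q).f j) (fZ_gZ_f K q j)).ShortExact :=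
  (Tb K q).shortExact.map_of_exact (HomologicalComplex.eval A _ j)

lemma shortExact_X (p : ℤ) (j : ℕ) :
    (ShortComplex.mk ((fX K p).f j) ((gX K p).f j) (fX_gX_f K p j)).ShortExact :=
  (Ta K p).shortExact.map_of_exact (HomologicalComplex.eval A _ j)

instance (q : ℤ) (j : ℕ) : Mono ((fZ K q).f j) := (shortExact_Z K q j).mono_f
instance (q : ℤ) (j : ℕ) : Epi ((gZ K q).f j) := (shortExact_Z K q j).epi_g
instance (p : ℤ) (j : ℕ) : Mono ((fX K p).f j) := (shortExact_X K p j).mono_f
instance (p : ℤ) (j : ℕ) : Epi ((gX K p).f j) := (shortExact_X K p j).epi_g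

@[reassoc]
lemma aug_fZ (q : ℤ) : aug (RB K q) ≫ (fZ K q).f 0 = bι K q ≫ aug (RZ K q) := by
  have h := HomologicalComplex.congr_hom (Tb K q).ι_f 0
  rw [HomologicalComplex.comp_f, HomologicalComplex.comp_f,
    CochainComplex.single₀_map_f_zero] at h
  exact h

@[reassoc]
lemma aug_gZ (q : ℤ) : aug (RZ K q) ≫ (gZ K q).f 0 = K.homologyπ q ≫ aug (RH K q) := by
  have h := HomologicalComplex.congr_hom (Tb K q).ι_g 0
  rw [HomologicalComplex.comp_f, HomologicalComplex.comp_f,
    CochainComplex.single₀_map_f_zero] at h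
  exact h

@[reassoc]
lemma aug_fX (p : ℤ) : aug (RZ K p) ≫ (fX K p).f 0 = K.iCycles p ≫ aug (RX K p) := by
  have h := HomologicalComplex.congr_hom (Ta K p).ι_f 0
  rw [HomologicalComplex.comp_f, HomologicalComplex.comp_f,
    CochainComplex.single₀_map_f_zero] at h
  exact h

@[reassoc]
lemma aug_gX (p : ℤ) : aug (RX K p) ≫ (gX K p).f 0 = liftB K p ≫ aug (RB K (p + 1)) := by
  have h := HomologicalComplex.congr_hom (Ta K p).ι_g 0
  rw [HomologicalComplex.comp_f, HomologicalComplex.comp_f,
    CochainComplex.single₀_map_f_zero] at h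
  exact h

end Res

end Groth.Agent.Helper6.CE
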