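import Mathlib
import Groth.Prelude.Def_CE
import Groth.Agent.Lib.Helper3.RDerH
import Groth.Agent.Lib.Helper6.CE.Data

set_option linter.unusedSectionVars false
set_option linter.unusedVariables false
set_option linter.unusedSimpArgs false
set_option autoImplicit false
set_option linter.style.haveILetI false
set_option maxHeartbeats 400000

universe v u

noncomputable section

namespace Groth.Agent.Helper6.CE

open CategoryTheory CategoryTheory.Limits Groth.Agent.Helper3.RDerH

variable {A : Type u} [Category.{v} A] [Abelian A] [EnoughInjectives A]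
variable (K : CochainComplex A ℤ)

/-- the horizontal differential of the Cartan-Eilenberg resolution -/
def δ (p : ℤ) : (RX K p).cocomplex ⟶ (RX K (p + 1)).cocomplex :=
  gX K p ≫ fZ K (p + 1) ≫ fX K (p + 1)

@[reassoc]
lemma δ_δ (p : ℤ) : δ K p ≫ δ K (p + 1) = 0 := by
  unfold δ
  simp only [Category.assoc]
  rw [fX_gX_assoc, zero_comp, comp_zero, comp_zero]

lemma δ_f (p : ℤ) (j : ℕ) :
    (δ K p).f j = (gX K p).f j ≫ (fZ K (p + 1)).f j ≫ (fX K (p + 1)).f j := by
  unfold δ
  rw [HomologicalComplex.comp_f, HomologicalComplex.comp_f]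

/-- the rows of the Cartan-Eilenberg resolution -/
def Row (j : ℕ) : CochainComplex A ℤ :=
  CochainComplex.of (fun p => (RX K p).cocomplex.X j) (fun p => (δ K p).f j)
    (fun p => by rw [← HomologicalComplex.comp_f, δ_δ, HomologicalComplex.zero_f])

lemma Row_d (j : ℕ) (p : ℤ) : (Row K j).d p (p + 1) = (δ K p).f j := by
  unfold Row
  exact CochainComplex.of_d (fun p => (RX K p).cocomplex.X j) (fun p => (δ K p).f j) p

/-- the vertical maps -/
def vert (j : ℕ) : Row K j ⟶ Row K (j + 1) where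
  f p := (RX K p).cocomplex.d j (j + 1)
  comm' p p' h := by
    obtain rfl : p + 1 = p' := h
    rw [Row_d, Row_d]
    exact ((δ K p).comm j (j + 1)).symm

@[reassoc]
lemma vert_vert (j : ℕ) : vert K j ≫ vert K (j + 1) = 0 := by
  ext p
  exact (RX K p).cocomplex.d_comp_d j (j + 1) (j + 1 + 1)

/-- the objects of the Cartan-Eilenberg resolution -/
def IX : ℤ → CochainComplex A ℤ
  | Int.ofNat j => Row K j
  | Int.negSucc _ => HomologicalComplex.zero

/-- the differentials of the Cartan-Eilenberg resolution -/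
def Id : ∀ q : ℤ, IX K q ⟶ IX K (q + 1)
  | Int.ofNat j => vert K j
  | Int.negSucc _ => 0

lemma Id_sq : ∀ q : ℤ, Id K q ≫ Id K (q + 1) = 0
  | Int.ofNat j => vert_vert K j
  | Int.negSucc _ => zero_comp

/-- the Cartan-Eilenberg resolution -/
def I : CochainComplex (CochainComplex A ℤ) ℤ := CochainComplex.of (IX K) (Id K) (Id_sq K)

lemma I_d (j : ℕ) : (I K).d (j : ℤ) ((j + 1 : ℕ) : ℤ) = vert K j :=
  CochainComplex.of_d _ _ (j : ℤ)

lemma I_X_neg (q : ℤ) (hq : q < 0) : (I K).X q = HomologicalComplex.zero := by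
  cases q with
  | ofNat j => exact absurd hq (by simp)
  | negSucc k => rfl

lemma aug_δ (p : ℤ) :
    aug (RX K p) ≫ (δ K p).f 0 = K.d p (p + 1) ≫ aug (RX K (p + 1)) := by
  rw [δ_f, aug_gX_assoc, aug_fZ_assoc, aug_fX, liftB_d_assoc]

/-- the augmentation -/
def ε : K ⟶ (I K).X 0 where
  f p := aug (RX K p)
  comm' p p' h := by
    obtain rfl : p + 1 = p' := h
    exact (congrArg (fun m => aug (RX K p) ≫ m) (Row_d K 0 p)).trans (aug_δ K p)

lemma ε_f (p : ℤ) : (ε K).f p = aug (RX K p) := rfl

lemma ε_d : ε K ≫ (I K).d 0 1 = 0 := by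
  have h : (I K).d 0 1 = vert K 0 := I_d K 0
  rw [h]
  ext p
  exact aug_d (RX K p)

section Bound

variable (n : ℤ) [K.IsStrictlyGE n]

include n in
lemma isZero_RX (p : ℤ) (hp : p < n) (j : ℕ) : IsZero ((RX K p).cocomplex.X j) := by
  have hX : IsZero (K.X p) := K.isZero_of_isStrictlyGE n p hp
  have hZ : IsZero (K.cycles p) := IsZero.of_mono (K.iCycles p) hX
  have hH : IsZero (K.homology p) := IsZero.of_epi (K.homologyπ p) hZ
  have hB : IsZero (Bd K p) := IsZero.of_mono (bι K p) hZ
  have hB' : IsZero (Bd K (p + 1)) := IsZero.of_epi (liftB K p) hX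
  have h1 : IsZero ((RB K p).cocomplex.X j) := res_isZero _ hB j
  have h2 : IsZero ((RH K p).cocomplex.X j) := res_isZero _ hH j
  have h3 : IsZero ((RB K (p + 1)).cocomplex.X j) := res_isZero _ hB' j
  have h4 : IsZero ((RZ K p).cocomplex.X j) :=
    (shortExact_Z K p j).exact.isZero_X₂ (h1.eq_of_src _ _) (h2.eq_of_tgt _ _)
  exact (shortExact_X K p j).exact.isZero_X₂ (h4.eq_of_src _ _) (h3.eq_of_tgt _ _)

include n in
lemma isZero_I (p q : ℤ) (hp : p < n) : IsZero (((I K).X q).X p) := by
  cases q with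
  | ofNat j => exact isZero_RX K n p hp j
  | negSucc k => exact isZero_zero A

end Bound

end Groth.Agent.Helper6.CE
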