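import Mathlib
import Groth.Prelude.Def_CE
import Groth.Agent.Lib.Helper3.RDerH
import Groth.Agent.Lib.Helper6.CE.Dbl

set_option linter.unusedSectionVars false
set_option linter.unusedVariables false
set_option linter.unusedSimpArgs false
set_option autoImplicit false
set_option linter.style.haveILetI false
set_option maxHeartbeats 400000

universe v u

noncomputable section

namespace Groth.Agent.Helper6.CE

open CategoryTheory CategoryTheory.Limits Groth.Agent.Helper3.RDerH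

variable {A : Type u} [Category.{v} A] [Abelian A]

section General

lemma cokerIso_w₁ {X X' Y Y' Q' : A} {f : X ⟶ Y}
    {f' : X' ⟶ Y'} {π' : Y' ⟶ Q'} (w' : f' ≫ π' = 0)
    (e : Y ≅ Y') (u : X ⟶ X') (hu : f ≫ e.hom = u ≫ f') : f ≫ e.hom ≫ π' = 0 := by
  rw [reassoc_of% hu, w', comp_zero]

lemma cokerIso_w₂ {X X' Y Y' Q : A} {f : X ⟶ Y} {π : Y ⟶ Q} (w : f ≫ π = 0)
    {f' : X' ⟶ Y'}
    (e : Y ≅ Y') (u : X ⟶ X') [Epi u] (hu : f ≫ e.hom = u ≫ f') : f' ≫ e.inv ≫ π = 0 := by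
  rw [← cancel_epi u, ← reassoc_of% hu, e.hom_inv_id_assoc, w, comp_zero]

/-- comparison of two cokernels, up to an isomorphism of the targets and an epimorphism of the
sources -/
def cokerIso {X X' Y Y' Q Q' : A} {f : X ⟶ Y} {π : Y ⟶ Q} {w : f ≫ π = 0}
    (hc : IsColimit (CokernelCofork.ofπ π w))
    {f' : X' ⟶ Y'} {π' : Y' ⟶ Q'} {w' : f' ≫ π' = 0}
    (hc' : IsColimit (CokernelCofork.ofπ π' w'))
    (e : Y ≅ Y') (u : X ⟶ X') [Epi u] (hu : f ≫ e.hom = u ≫ f') : Q ≅ Q' where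
  hom := hc.desc (CokernelCofork.ofπ (e.hom ≫ π') (cokerIso_w₁ w' e u hu))
  inv := hc'.desc (CokernelCofork.ofπ (e.inv ≫ π) (cokerIso_w₂ w e u hu))
  hom_inv_id := by
    apply Cofork.IsColimit.hom_ext hc
    have h1 := Cofork.IsColimit.π_desc hc
      (t := CokernelCofork.ofπ (e.hom ≫ π') (cokerIso_w₁ w' e u hu))
    have h2 := Cofork.IsColimit.π_desc hc'
      (t := CokernelCofork.ofπ (e.inv ≫ π) (cokerIso_w₂ w e u hu))
    simp only [Cofork.π_ofπ] at h1 h2 ⊢
    rw [reassoc_of% h1, h2, e.hom_inv_id_assoc]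
    exact (Category.comp_id _).symm
  inv_hom_id := by
    apply Cofork.IsColimit.hom_ext hc'
    have h1 := Cofork.IsColimit.π_desc hc
      (t := CokernelCofork.ofπ (e.hom ≫ π') (cokerIso_w₁ w' e u hu))
    have h2 := Cofork.IsColimit.π_desc hc'
      (t := CokernelCofork.ofπ (e.inv ≫ π) (cokerIso_w₂ w e u hu))
    simp only [Cofork.π_ofπ] at h1 h2 ⊢
    rw [reassoc_of% h2, h1, e.inv_hom_id_assoc]
    exact (Category.comp_id _).symm

@[reassoc]
lemma π_cokerIso_hom {X X' Y Y' Q Q' : A} {f : X ⟶ Y} {π : Y ⟶ Q} {w : f ≫ π = 0}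
    (hc : IsColimit (CokernelCofork.ofπ π w))
    {f' : X' ⟶ Y'} {π' : Y' ⟶ Q'} {w' : f' ≫ π' = 0}
    (hc' : IsColimit (CokernelCofork.ofπ π' w'))
    (e : Y ≅ Y') (u : X ⟶ X') [Epi u] (hu : f ≫ e.hom = u ≫ f') :
    π ≫ (cokerIso hc hc' e u hu).hom = e.hom ≫ π' :=
  Cofork.IsColimit.π_desc hc (t := CokernelCofork.ofπ (e.hom ≫ π') (cokerIso_w₁ w' e u hu))

end General

variable [EnoughInjectives A] (K : CochainComplex A ℤ)

lemma isZero_I_neg (q : ℤ) (hq : q < 0) (p : ℤ) : IsZero (((I K).X q).X p) := by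
  cases q with
  | ofNat j => exact absurd hq (by simp)
  | negSucc k => exact isZero_zero A

lemma isZero_I_neg_cycles (q : ℤ) (hq : q < 0) (p : ℤ) : IsZero (((I K).X q).cycles p) :=
  IsZero.of_mono (((I K).X q).iCycles p) (isZero_I_neg K q hq p)

lemma isZero_I_neg_homology (q : ℤ) (hq : q < 0) (p : ℤ) : IsZero (((I K).X q).homology p) :=
  IsZero.of_epi (((I K).X q).homologyπ p) (isZero_I_neg_cycles K q hq p)

/-! ### typed versions of the maps -/

/-- `(fX p)^j` as a map to the row -/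
def rf (p : ℤ) (j : ℕ) : (RZ K p).cocomplex.X j ⟶ (Row K j).X p := (fX K p).f j

/-- `(gX p)^j` as a map from the row -/
def rg (p : ℤ) (j : ℕ) : (Row K j).X p ⟶ (RB K (p + 1)).cocomplex.X j := (gX K p).f j

instance (p : ℤ) (j : ℕ) : Mono (rf K p j) := inferInstanceAs (Mono ((fX K p).f j))
instance (p : ℤ) (j : ℕ) : Epi (rg K p j) := inferInstanceAs (Epi ((gX K p).f j))

@[reassoc]
lemma rf_rg (p : ℤ) (j : ℕ) : rf K p j ≫ rg K p j = 0 := fX_gX_f K p j

lemma rSE (p : ℤ) (j : ℕ) : (ShortComplex.mk (rf K p j) (rg K p j) (rf_rg K p j)).ShortExact :=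
  shortExact_X K p j

lemma Row_d' (j : ℕ) (p : ℤ) :
    (Row K j).d p (p + 1) = rg K p j ≫ (fZ K (p + 1)).f j ≫ rf K (p + 1) j :=
  (Row_d K j p).trans (δ_f K p j)

@[reassoc]
lemma rf_vert (p : ℤ) (j : ℕ) :
    rf K p j ≫ (vert K j).f p = (RZ K p).cocomplex.d j (j + 1) ≫ rf K p (j + 1) :=
  (fX K p).comm j (j + 1)

/-- the augmentation, as a map to the zeroth row -/
def ε' : K ⟶ Row K 0 := ε K

lemma aug_rf (p : ℤ) : aug (RZ K p) ≫ rf K p 0 = K.iCycles p ≫ (ε' K).f p := aug_fX K p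

/-! ### the columns of terms -/

theorem col_eval (p : ℤ) :
    _root_.CE.IsInjResolutionVia
      (((HomologicalComplex.eval A (ComplexShape.up ℤ) p).mapHomologicalComplex
        (ComplexShape.up ℤ)).obj (I K)) (K.X p) ((ε K).f p) := by
  refine isInjResolutionVia_of_iso _ _ _ (RX K p) (fun j => Iso.refl _) ?_ ?_ ?_
  · intro j
    have h : ((I K).d (j : ℤ) ((j + 1 : ℕ) : ℤ)).f p = (RX K p).cocomplex.d j (j + 1) := by
      rw [I_d]
      rfl
    exact (Category.comp_id _).trans (h.trans (Category.id_comp _).symm)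
  · exact Category.comp_id _
  · intro q hq
    exact isZero_I_neg K q hq p

/-! ### the columns of cycles -/

lemma rf_Row_d (j : ℕ) (p : ℤ) : rf K p j ≫ (Row K j).d p (p + 1) = 0 := by
  rw [Row_d', rf_rg_assoc, zero_comp]

/-- `(RZ p)^j` is the kernel of the horizontal differential -/
def isKernelRow (j : ℕ) (p : ℤ) :
    IsLimit (KernelFork.ofι (f := (Row K j).d p (p + 1)) (rf K p j) (rf_Row_d K j p)) := by
  have h1 : IsLimit (KernelFork.ofι (rf K p j) (rf_rg K p j)) :=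
    (rSE K p j).exact.fIsKernel
  exact isKernelCompMono h1 ((fZ K (p + 1)).f j ≫ rf K (p + 1) j) (Row_d' K j p)

/-- horizontal cycles of the row -/
def φZ (p : ℤ) (j : ℕ) : (Row K j).cycles p ≅ (RZ K p).cocomplex.X j :=
  IsLimit.conePointUniqueUpToIso ((Row K j).cyclesIsKernel p (p + 1) (by simp))
    (isKernelRow K j p)

@[reassoc]
lemma φZ_hom_rf (p : ℤ) (j : ℕ) : (φZ K p j).hom ≫ rf K p j = (Row K j).iCycles p :=
  IsLimit.conePointUniqueUpToIso_hom_comp ((Row K j).cyclesIsKernel p (p + 1) (by simp))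
    (isKernelRow K j p) WalkingParallelPair.zero

@[reassoc]
lemma cyclesMap_vert (p : ℤ) (j : ℕ) :
    HomologicalComplex.cyclesMap (vert K j) p ≫ (φZ K p (j + 1)).hom =
      (φZ K p j).hom ≫ (RZ K p).cocomplex.d j (j + 1) := by
  rw [← cancel_mono (rf K p (j + 1)), Category.assoc, Category.assoc, φZ_hom_rf,
    HomologicalComplex.cyclesMap_i, ← rf_vert, φZ_hom_rf_assoc]

lemma cyclesMap_ε' (p : ℤ) :
    HomologicalComplex.cyclesMap (ε' K) p ≫ (φZ K p 0).hom = aug (RZ K p) := by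
  rw [← cancel_mono (rf K p 0), Category.assoc, φZ_hom_rf, HomologicalComplex.cyclesMap_i,
    aug_rf]

theorem col_cycles (p : ℤ) :
    _root_.CE.IsInjResolutionVia
      (((HomologicalComplex.cyclesFunctor A (ComplexShape.up ℤ) p).mapHomologicalComplex
        (ComplexShape.up ℤ)).obj (I K)) (K.cycles p) (HomologicalComplex.cyclesMap (ε K) p) := by
  refine isInjResolutionVia_of_iso _ _ _ (RZ K p) (fun j => φZ K p j) ?_ ?_ ?_
  · intro j
    have h : HomologicalComplex.cyclesMap ((I K).d (j : ℤ) ((j + 1 : ℕ) : ℤ)) p =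
        HomologicalComplex.cyclesMap (vert K j) p := by
      rw [I_d]
      rfl
    exact (congrArg (fun m => m ≫ (φZ K p (j + 1)).hom) h).trans (cyclesMap_vert K p j)
  · exact cyclesMap_ε' K p
  · intro q hq
    exact isZero_I_neg_cycles K q hq p

/-! ### the columns of cohomology -/

lemma toCycles_φZ (p : ℤ) (j : ℕ) :
    (Row K j).toCycles p (p + 1) ≫ (φZ K (p + 1) j).hom =
      rg K p j ≫ (fZ K (p + 1)).f j := by
  rw [← cancel_mono (rf K (p + 1) j), Category.assoc, Category.assoc, φZ_hom_rf,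
    HomologicalComplex.toCycles_i, Row_d']

/-- horizontal cohomology of the row, in degree `p + 1` -/
def φH (p : ℤ) (j : ℕ) : (Row K j).homology (p + 1) ≅ (RH K (p + 1)).cocomplex.X j :=
  cokerIso ((Row K j).homologyIsCokernel p (p + 1) (by simp))
    (shortExact_Z K (p + 1) j).exact.gIsCokernel (φZ K (p + 1) j) (rg K p j)
    (toCycles_φZ K p j)

@[reassoc]
lemma π_φH (p : ℤ) (j : ℕ) :
    (Row K j).homologyπ (p + 1) ≫ (φH K p j).hom =
      (φZ K (p + 1) j).hom ≫ (gZ K (p + 1)).f j :=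
  π_cokerIso_hom ((Row K j).homologyIsCokernel p (p + 1) (by simp))
    (shortExact_Z K (p + 1) j).exact.gIsCokernel (φZ K (p + 1) j) (rg K p j)
    (toCycles_φZ K p j)

lemma homologyMap_vert (p : ℤ) (j : ℕ) :
    HomologicalComplex.homologyMap (vert K j) (p + 1) ≫ (φH K p (j + 1)).hom =
      (φH K p j).hom ≫ (RH K (p + 1)).cocomplex.d j (j + 1) := by
  rw [← cancel_epi ((Row K j).homologyπ (p + 1)),
    HomologicalComplex.homologyπ_naturality_assoc, π_φH, π_φH_assoc, cyclesMap_vert_assoc,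
    (gZ K (p + 1)).comm j (j + 1)]

lemma homologyMap_ε' (p : ℤ) :
    HomologicalComplex.homologyMap (ε' K) (p + 1) ≫ (φH K p 0).hom = aug (RH K (p + 1)) := by
  rw [← cancel_epi (K.homologyπ (p + 1)), HomologicalComplex.homologyπ_naturality_assoc,
    π_φH, ← aug_gZ, ← cyclesMap_ε' K (p + 1), Category.assoc]

theorem col_homology (p : ℤ) :
    _root_.CE.IsInjResolutionVia
      (((HomologicalComplex.homologyFunctor A (ComplexShape.up ℤ) p).mapHomologicalComplex
        (ComplexShape.up ℤ)).obj (I K)) (K.homology p)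
      (HomologicalComplex.homologyMap (ε K) p) := by
  obtain ⟨p, rfl⟩ : ∃ p', p = p' + 1 := ⟨p - 1, by ring⟩
  refine isInjResolutionVia_of_iso _ _ _ (RH K (p + 1)) (fun j => φH K p j) ?_ ?_ ?_
  · intro j
    have h : HomologicalComplex.homologyMap ((I K).d (j : ℤ) ((j + 1 : ℕ) : ℤ)) (p + 1) =
        HomologicalComplex.homologyMap (vert K j) (p + 1) := by
      rw [I_d]
      rfl
    exact (congrArg (fun m => m ≫ (φH K p (j + 1)).hom) h).trans (homologyMap_vert K p j)
  · exact homologyMap_ε' K p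
  · intro q hq
    exact isZero_I_neg_homology K q hq (p + 1)

/-- existence of Cartan-Eilenberg resolutions -/
theorem exists_cartanEilenberg (n : ℤ) [K.IsStrictlyGE n] :
    ∃ (I : CochainComplex (CochainComplex A ℤ) ℤ) (ε : K ⟶ I.X 0) (hε : ε ≫ I.d 0 1 = 0),
      (∃ i : ℤ, ∀ p q : ℤ, p < i → IsZero ((I.X q).X p)) ∧
      (∀ p : ℤ, _root_.CE.IsInjResolutionVia (((HomologicalComplex.eval A (ComplexShape.up ℤ) p).mapHomologicalComplex (ComplexShape.up ℤ)).obj I) (K.X p) (ε.f p)) ∧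
      (∀ p : ℤ, _root_.CE.IsInjResolutionVia (((HomologicalComplex.cyclesFunctor A (ComplexShape.up ℤ) p).mapHomologicalComplex (ComplexShape.up ℤ)).obj I) (K.cycles p) (HomologicalComplex.cyclesMap ε p)) ∧
      (∀ p : ℤ, _root_.CE.IsInjResolutionVia (((HomologicalComplex.homologyFunctor A (ComplexShape.up ℤ) p).mapHomologicalComplex (ComplexShape.up ℤ)).obj I) (K.homology p) (HomologicalComplex.homologyMap ε p)) :=
  ⟨I K, ε K, ε_d K, ⟨n, fun p q hp => isZero_I K n p q hp⟩, col_eval K, col_cycles K,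
    col_homology K⟩

end Groth.Agent.Helper6.CE
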